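import Cfsg.Agent.Lib.FeitHigman.Poly
import Mathlib.LinearAlgebra.BilinearMap
import Mathlib.Tactic.NoncommRing
import Mathlib.Tactic.Module

/-!
Two elements with quadratic relations: the central element, powers of their product, and the values of
a trace on the scaled Chebyshev polynomials of the central element.
-/

set_option autoImplicit false

namespace CfsgLib.FeitHigman

open Polynomial

variable {A : Type*} [Ring A] [Algebra ℝ A]

/-- two elements with the quadratic relations -/
structure HeckePair (a b : A) (x y : ℝ) : Prop where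
  quadA : a * a = (x - 1) • a + x • (1 : A)
  quadB : b * b = (y - 1) • b + y • (1 : A)

/-- the central element -/
def cen (a b : A) (x y : ℝ) : A :=
  a * b + b * a - (y - 1) • a - (x - 1) • b + ((x - 1) * (y - 1)) • (1 : A)

theorem cen_swap (a b : A) (x y : ℝ) : cen b a y x = cen a b x y := by
  unfold cen
  rw [add_comm (b * a), mul_comm (y - 1) (x - 1)]
  abel

namespace HeckePair

variable {a b : A} {x y : ℝ}

theorem swap (h : HeckePair a b x y) : HeckePair b a y x := ⟨h.quadB, h.quadA⟩

theorem cen_mul_left (h : HeckePair a b x y) :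
    cen a b x y * a = a * b * a + x • b - (x * (y - 1)) • (1 : A) := by
  simp only [cen, add_mul, sub_mul, smul_mul_assoc, one_mul, mul_assoc b a a, h.quadA, mul_add,
    mul_smul_comm, mul_one, smul_add, smul_smul]
  module

theorem mul_cen_left (h : HeckePair a b x y) :
    a * cen a b x y = a * b * a + x • b - (x * (y - 1)) • (1 : A) := by
  simp only [cen, mul_add, mul_sub, mul_smul_comm, mul_one, ← mul_assoc, h.quadA, add_mul,
    smul_mul_assoc, one_mul, smul_add, smul_smul]
  module

theorem commute_left (h : HeckePair a b x y) : cen a b x y * a = a * cen a b x y := by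
  rw [h.cen_mul_left, h.mul_cen_left]

theorem commute_right (h : HeckePair a b x y) : cen a b x y * b = b * cen a b x y := by
  rw [← cen_swap, h.swap.commute_left]

theorem mul_sq (h : HeckePair a b x y) :
    a * b * (a * b) = cen a b x y * (a * b) - (x * y) • (1 : A) := by
  have e1 : b * a * (a * b) = (x - 1) • (b * a * b) + x • (b * b) := by
    rw [← mul_assoc (b * a), mul_assoc b a a, h.quadA]
    simp only [mul_add, add_mul, mul_smul_comm, smul_mul_assoc, mul_one, mul_assoc]
  have e2 : a * (a * b) = (x - 1) • (a * b) + x • b := by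
    rw [← mul_assoc, h.quadA]
    simp only [add_mul, smul_mul_assoc, one_mul]
  simp only [cen, add_mul, sub_mul, smul_mul_assoc, one_mul, e1, e2, h.quadB, smul_add, smul_smul,
    ← mul_assoc b a b]
  module

/-- `a b a` through the central element -/
theorem aba_eq (h : HeckePair a b x y) :
    a * b * a = cen a b x y * a - x • b + (x * (y - 1)) • (1 : A) := by
  rw [h.cen_mul_left]
  abel

theorem pow_add_two (h : HeckePair a b x y) : ∀ k : ℕ, (a * b) ^ (k + 2) =
    aeval (cen a b x y) (scaledU (x * y) (k + 1)) * (a * b) -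
      (x * y) • aeval (cen a b x y) (scaledU (x * y) k) := by
  intro k
  induction k with
  | zero => simp [scaledU, pow_two, h.mul_sq]
  | succ k ih =>
    rw [pow_succ, ih, sub_mul, mul_assoc, h.mul_sq, mul_sub, smul_mul_assoc, scaledU_add_two]
    simp only [map_sub, map_mul, aeval_X, aeval_C, Algebra.algebraMap_eq_smul_one,
      smul_mul_assoc, one_mul, mul_smul_comm, mul_one, sub_mul]
    rw [← mul_assoc, show aeval (cen a b x y) (scaledU (x * y) (k + 1)) * cen a b x y =
      cen a b x y * aeval (cen a b x y) (scaledU (x * y) (k + 1)) by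
        conv_lhs => arg 2; rw [← aeval_X (R := ℝ) (cen a b x y)]
        conv_rhs => arg 1; rw [← aeval_X (R := ℝ) (cen a b x y)]
        rw [← map_mul, ← map_mul, mul_comm]]
    module

/-- the difference of the powers of `a b` and `b a` -/
theorem pow_sub_pow (h : HeckePair a b x y) (k : ℕ) : (a * b) ^ (k + 1) - (b * a) ^ (k + 1) =
    aeval (cen a b x y) (scaledU (x * y) k) * (a * b - b * a) := by
  cases k with
  | zero => simp [scaledU]
  | succ k =>
    rw [h.pow_add_two, h.swap.pow_add_two, cen_swap, mul_comm y x, mul_sub]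
    abel

theorem commutator_sq (h : HeckePair a b x y) : (a * b - b * a) * (a * b - b * a) =
    aeval (cen a b x y) ((X - C (x * y + 1)) * (X + C (x + y))) := by
  have e3 : a * b * (b * a) = (y - 1) • (a * b * a) + y • (a * a) := by
    rw [← mul_assoc (a * b), mul_assoc a b b, h.quadB]
    simp only [mul_add, add_mul, mul_smul_comm, smul_mul_assoc, mul_one, mul_assoc]
  have e4 : b * a * (a * b) = (x - 1) • (b * a * b) + x • (b * b) := by
    rw [← mul_assoc (b * a), mul_assoc b a a, h.quadA]
    simp only [mul_add, add_mul, mul_smul_comm, smul_mul_assoc, mul_one, mul_assoc]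
  have h2 := h.swap.mul_sq
  rw [cen_swap] at h2
  have h3 := h.swap.aba_eq
  rw [cen_swap] at h3
  have hC : cen a b x y * cen a b x y = cen a b x y * (a * b) + cen a b x y * (b * a)
      - (y - 1) • (cen a b x y * a) - (x - 1) • (cen a b x y * b)
      + ((x - 1) * (y - 1)) • cen a b x y := by
    conv_lhs => arg 2; unfold cen
    simp only [mul_add, mul_sub, mul_smul_comm, mul_one]
  simp only [sub_mul, mul_sub, h.mul_sq, h2, e3, e4, h.aba_eq, h3, h.quadA, h.quadB, map_mul,
    map_add, map_sub, aeval_X, aeval_C, Algebra.algebraMap_eq_smul_one, mul_add, add_mul, mul_smul_comm,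
    smul_mul_assoc, mul_one, one_mul, hC]
  module

/-- hypotheses on a trace up to length `2 m` -/
structure TraceData (a b : A) (τ : A →ₗ[ℝ] ℝ) (N E : ℝ) (m : ℕ) : Prop where
  cycl : ∀ u v : A, τ (u * v) = τ (v * u)
  one : τ 1 = N
  even : ∀ k : ℕ, k + 1 < m → τ ((a * b) ^ (k + 1)) = 0
  top : τ ((a * b) ^ m) = E
  oddA : ∀ k : ℕ, k < m → τ ((a * b) ^ k * a) = 0
  oddB : ∀ k : ℕ, k < m → τ ((b * a) ^ k * b) = 0

variable {τ : A →ₗ[ℝ] ℝ} {N E : ℝ} {m : ℕ}

theorem TraceData.swap (hτ : TraceData a b τ N E m) : TraceData b a τ N E m := by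
  have e : ∀ k : ℕ, τ ((b * a) ^ (k + 1)) = τ ((a * b) ^ (k + 1)) := fun k => by
    have e2 : ∀ j : ℕ, (b * a) ^ j * b = b * (a * b) ^ j := fun j => by
      induction j with
      | zero => simp
      | succ j ih => rw [pow_succ', pow_succ', mul_assoc, ih]; simp only [mul_assoc]
    rw [pow_succ, ← mul_assoc, e2, hτ.cycl, ← mul_assoc, ← pow_succ']
  refine ⟨hτ.cycl, hτ.one, fun k hk => (e k).trans (hτ.even k hk), ?_, hτ.oddB, hτ.oddA⟩
  cases m with
  | zero => simpa using hτ.top
  | succ k => exact (e k).trans hτ.top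

theorem aeval_succ (C0 : A) (s : ℝ) (k : ℕ) : aeval C0 (scaledU s (k + 1)) * C0 =
    aeval C0 (scaledU s (k + 2)) + s • aeval C0 (scaledU s k) := by
  rw [scaledU_add_two, map_sub, map_mul, map_mul, aeval_X, aeval_C, ← Algebra.smul_def, sub_add_cancel]
  conv_lhs => arg 2; rw [← aeval_X (R := ℝ) C0]
  conv_rhs => arg 1; rw [← aeval_X (R := ℝ) C0]
  rw [← map_mul, ← map_mul, mul_comm]

theorem aeval_zero_mul (C0 : A) (s : ℝ) : aeval C0 (scaledU s 0) * C0 = aeval C0 (scaledU s 1) := by
  simp [scaledU]

/-- the values on `u_k a` -/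
theorem tau_mul_left (h : HeckePair a b x y) (hτ : TraceData a b τ N E m) (k : ℕ) (hk : k + 1 < m) :
    τ (aeval (cen a b x y) (scaledU (x * y) (k + 1)) * a) =
      x * τ (aeval (cen a b x y) (scaledU (x * y) k) * b) -
        x * (y - 1) * τ (aeval (cen a b x y) (scaledU (x * y) k)) := by
  cases k with
  | zero =>
    have h1 := congrArg τ h.aba_eq
    rw [← pow_one (a * b), hτ.oddA 1 hk] at h1
    simp only [map_add, map_sub, map_smul, smul_eq_mul] at h1
    simp only [scaledU, aeval_X, map_one, one_mul]
    linear_combination -h1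
  | succ j =>
    have h1 := hτ.oddA (j + 2) hk
    rw [h.pow_add_two, sub_mul, mul_assoc, h.aba_eq, mul_add, mul_sub, ← mul_assoc,
      aeval_succ] at h1
    simp only [add_mul, smul_mul_assoc, mul_smul_comm, mul_one, map_add, map_sub, map_smul,
      smul_eq_mul] at h1
    linear_combination h1

theorem tau_mul_right (h : HeckePair a b x y) (hτ : TraceData a b τ N E m) (k : ℕ) (hk : k + 1 < m) :
    τ (aeval (cen a b x y) (scaledU (x * y) (k + 1)) * b) =
      y * τ (aeval (cen a b x y) (scaledU (x * y) k) * a) -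
        y * (x - 1) * τ (aeval (cen a b x y) (scaledU (x * y) k)) := by
  have := tau_mul_left h.swap hτ.swap k hk
  rwa [cen_swap, mul_comm y x] at this

/-- the values on `u_k (a b)` -/
theorem tau_mul_prod (h : HeckePair a b x y) (hτ : TraceData a b τ N E m) (k : ℕ) :
    τ (aeval (cen a b x y) (scaledU (x * y) (k + 1)) * (a * b)) =
      x * y * τ (aeval (cen a b x y) (scaledU (x * y) k)) + τ ((a * b) ^ (k + 2)) := by
  have h1 := congrArg τ (h.pow_add_two k)
  simp only [map_sub, map_smul, smul_eq_mul] at h1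
  linear_combination -h1

theorem tau_prod_comm (h : HeckePair a b x y) (hτ : TraceData a b τ N E m) (p : ℝ[X]) :
    τ (aeval (cen a b x y) p * (b * a)) = τ (aeval (cen a b x y) p * (a * b)) := by
  have hc : Commute (aeval (cen a b x y) p) a := by
    induction p using Polynomial.induction_on' with
    | add q r hq hr => rw [map_add]; exact hq.add_left hr
    | monomial i t =>
      rw [aeval_monomial]
      exact (Algebra.commute_algebraMap_left t a).mul_left ((show Commute _ a from h.commute_left).pow_left i)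
  rw [← mul_assoc, hτ.cycl, ← mul_assoc, ← hc.eq, mul_assoc]

theorem tau_mul_cen (h : HeckePair a b x y) (hτ : TraceData a b τ N E m) (p : ℝ[X]) :
    τ (aeval (cen a b x y) p * cen a b x y) = 2 * τ (aeval (cen a b x y) p * (a * b))
      - (y - 1) * τ (aeval (cen a b x y) p * a) - (x - 1) * τ (aeval (cen a b x y) p * b)
      + (x - 1) * (y - 1) * τ (aeval (cen a b x y) p) := by
  conv_lhs => arg 2; arg 2; unfold cen
  simp only [mul_add, mul_sub, mul_smul_comm, mul_one, map_add, map_sub, map_smul, smul_eq_mul]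
  rw [tau_prod_comm h hτ]
  ring

/-- the weight `[a,b]²` expanded -/
theorem tau_weight (h : HeckePair a b x y) (hτ : TraceData a b τ N E m) (p : ℝ[X]) :
    τ (aeval (cen a b x y) (p * ((X - C (x * y + 1)) * (X + C (x + y))))) =
      2 * τ (aeval (cen a b x y) p * cen a b x y * (a * b))
      - (y - 1) * τ (aeval (cen a b x y) p * cen a b x y * a)
      - (x - 1) * τ (aeval (cen a b x y) p * cen a b x y * b)
      - (x * y + 1) * (x + y) * τ (aeval (cen a b x y) p) := by
  have h1 := tau_mul_cen h hτ (p * X)
  simp only [map_mul, aeval_X] at h1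
  have e : p * ((X - C (x * y + 1)) * (X + C (x + y))) =
      p * X * X + ((x + y) - (x * y + 1)) • (p * X) - ((x * y + 1) * (x + y)) • p := by
    simp only [smul_eq_C_mul, map_sub, map_mul]
    ring
  rw [e]
  simp only [map_sub, map_add, map_smul, map_mul, aeval_X, smul_eq_mul]
  linear_combination h1

theorem tau_zero_values (h : HeckePair a b x y) (hτ : TraceData a b τ N E m) (hm : 2 ≤ m) :
    τ a = 0 ∧ τ b = 0 ∧ τ (a * b) = 0 ∧ τ (cen a b x y) = (x - 1) * (y - 1) * N := by
  have h1 := hτ.oddA 0 (by omega)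
  have h2 := hτ.oddB 0 (by omega)
  have h3 := hτ.even 0 (by omega)
  rw [pow_zero, one_mul] at h1 h2
  rw [pow_one] at h3
  refine ⟨h1, h2, h3, ?_⟩
  have := tau_mul_cen h hτ 1
  simp only [map_one, one_mul, h1, h2, h3, hτ.one] at this
  linear_combination this

/-- the functional `p ↦ τ (p(C) [a,b]²)` on the Chebyshev basis -/
theorem tau_weight_scaledU (h : HeckePair a b x y) (hτ : TraceData a b τ N E m) (k : ℕ) (hk : k + 2 ≤ m) :
    τ (aeval (cen a b x y) (scaledU (x * y) k * ((X - C (x * y + 1)) * (X + C (x + y))))) =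
      (if k = 0 then -2 * (x * y) * N else 0) + (if k + 2 = m then 2 * E else 0) := by
  rw [tau_weight h hτ]
  obtain ⟨ha, hb, hab, hC⟩ := tau_zero_values h hτ (by omega)
  have htop : ∀ i : ℕ, i + 2 ≤ m → τ ((a * b) ^ (i + 2)) = if i + 2 = m then E else 0 := by
    intro i hi
    split_ifs with he
    · rw [he, hτ.top]
    · exact hτ.even (i + 1) (by omega)
  match k with
  | 0 =>
    have hA := tau_mul_left h hτ 0 (by omega)
    have hB := tau_mul_right h hτ 0 (by omega)
    have hP := tau_mul_prod h hτ 0
    rw [htop 0 hk] at hP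
    simp only [scaledU, map_one, one_mul, aeval_X, hτ.one, ha, hb] at hA hB hP ⊢
    rw [hA, hB, hP]
    simp only [if_true]
    split_ifs <;> ring
  | 1 =>
    have hA := tau_mul_left h hτ 1 (by omega)
    have hB := tau_mul_right h hτ 1 (by omega)
    have hA0 := tau_mul_left h hτ 0 (by omega)
    have hB0 := tau_mul_right h hτ 0 (by omega)
    have hP := tau_mul_prod h hτ 1
    have hR := tau_mul_cen h hτ (scaledU (x * y) 1)
    rw [htop 1 hk] at hP
    simp only [show (scaledU (x * y) 1) = scaledU (x * y) (0 + 1) from rfl, aeval_succ, add_mul, smul_mul_assoc,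
      map_add, map_smul, smul_eq_mul] at hR ⊢
    simp only [Nat.reduceAdd] at hA hB hA0 hB0 hP hR ⊢
    rw [hA, hB, hP]
    simp only [scaledU_zero, map_one, one_mul, hτ.one, ha, hb, hab, scaledU_one, aeval_X, hC] at hA0 hB0 hR ⊢
    rw [hA0, hB0]
    simp only [show (1 : ℕ) ≠ 0 from one_ne_zero, if_false]
    split_ifs <;> ring
  | j + 2 =>
    have hA := tau_mul_left h hτ (j + 2) (by omega)
    have hB := tau_mul_right h hτ (j + 2) (by omega)
    have hA1 := tau_mul_left h hτ (j + 1) (by omega)
    have hB1 := tau_mul_right h hτ (j + 1) (by omega)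
    have hP := tau_mul_prod h hτ (j + 2)
    have hP1 := tau_mul_prod h hτ j
    have hR := tau_mul_cen h hτ (scaledU (x * y) (j + 1))
    rw [htop (j + 2) hk] at hP
    rw [hτ.even (j + 1) (by omega)] at hP1
    simp only [aeval_succ, add_mul, smul_mul_assoc, map_add, map_smul, smul_eq_mul] at hR ⊢
    rw [hA, hB, hA1, hB1, hP, hP1]
    have hR' := hR
    rw [tau_mul_prod h hτ j, hτ.even (j + 1) (by omega)] at hR'
    simp only [show j + 2 ≠ 0 by omega, if_false]
    split_ifs <;> linear_combination (-2 * (x * y)) * hR'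

end HeckePair

end CfsgLib.FeitHigman
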