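import Cfsg.Agent.Lib.FeitHigman.Main
import Cfsg.Agent.Lib.BNPair.Bruhat

/-!
The coset matrices of a (B, N)-pair, and the rank two system they give.
-/

set_option autoImplicit false

namespace CfsgLib.FeitHigman

open CfsgLib.BNPair Matrix

universe u

variable {G : Type u} [Group G] (P : Cfsg.BNPair G)

/-- two cosets in position `w` -/
def rel (w : Weyl P) (X Y : G ⧸ P.B) : Prop :=
  ∃ g g' : G, QuotientGroup.mk g = X ∧ QuotientGroup.mk g' = Y ∧ g⁻¹ * g' ∈ cell P w

theorem rel_mk {w : Weyl P} {g g' : G} :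
    rel P w (QuotientGroup.mk g) (QuotientGroup.mk g') ↔ g⁻¹ * g' ∈ cell P w := by
  refine ⟨?_, fun h => ⟨g, g', rfl, rfl, h⟩⟩
  rintro ⟨k, k', hk, hk', h⟩
  rw [QuotientGroup.eq] at hk hk'
  have := mul_mem_cell P (inv_mem hk) h hk'
  convert this using 1
  group

theorem rel_unique {w v : Weyl P} {X Y : G ⧸ P.B} (hw : rel P w X Y) (hv : rel P v X Y) : w = v := by
  obtain ⟨g, g', rfl, rfl, h⟩ := hw
  exact cell_injective P h ((rel_mk P).1 hv)

theorem rel_one {X Y : G ⧸ P.B} : rel P 1 X Y ↔ X = Y := by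
  induction X using QuotientGroup.induction_on with | H g => ?_
  induction Y using QuotientGroup.induction_on with | H g' => ?_
  rw [rel_mk, mem_cell_one, QuotientGroup.eq]

theorem rel_symm {w : Weyl P} {X Y : G ⧸ P.B} (h : rel P w X Y) : rel P w⁻¹ Y X := by
  obtain ⟨g, g', rfl, rfl, h⟩ := h
  rw [rel_mk]
  simpa using inv_mem_cell P h

theorem rel_simp_symm {s : P.S} {X Y : G ⧸ P.B} (h : rel P (simp' P s) X Y) : rel P (simp' P s) Y X := by
  have := rel_symm P h
  rwa [simp_inv] at this

theorem rel_smul {w : Weyl P} {X Y : G ⧸ P.B} (k : G) (h : rel P w X Y) :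
    rel P w (k • X) (k • Y) := by
  obtain ⟨g, g', rfl, rfl, h⟩ := h
  refine ⟨k * g, k * g', rfl, rfl, ?_⟩
  convert h using 1
  group

theorem rel_step {s : P.S} {v : Weyl P} (hlen : len P v ≤ len P (simp' P s * v)) {X Y Z : G ⧸ P.B}
    (h1 : rel P (simp' P s) X Y) (h2 : rel P v Y Z) : rel P (simp' P s * v) X Z := by
  induction X using QuotientGroup.induction_on with | H g => ?_
  induction Y using QuotientGroup.induction_on with | H g' => ?_
  induction Z using QuotientGroup.induction_on with | H g'' => ?_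
  rw [rel_mk] at *
  rw [simp', cell_wcl, DoubleCoset.mem_doubleCoset] at h1
  obtain ⟨c, hc, c', hc', e⟩ := h1
  have := mul_mem_cell P hc (simp_mul_of_len_le P s hlen hc' h2) (one_mem P.B)
  convert this using 1
  rw [mul_one, ← mul_assoc, show c * ((s : G) * c') = c * (s : G) * c' by group]
  rw [show c * (s : G) * c' = g⁻¹ * g' from e.symm]
  group

theorem rel_simp_two {s : P.S} {X Y Z : G ⧸ P.B} (h1 : rel P (simp' P s) X Y)
    (h2 : rel P (simp' P s) Y Z) : X = Z ∨ rel P (simp' P s) X Z := by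
  induction X using QuotientGroup.induction_on with | H g => ?_
  induction Y using QuotientGroup.induction_on with | H g' => ?_
  induction Z using QuotientGroup.induction_on with | H g'' => ?_
  rw [rel_mk] at *
  have e : g⁻¹ * g' * (g'⁻¹ * g'') = g⁻¹ * g'' := by group
  rcases mul_cell_simp_cases P s h2 h1 with h | h
  · rw [simp_mul_self, mem_cell_one, e] at h
    exact Or.inl (QuotientGroup.eq.2 h)
  · rw [e] at h
    exact Or.inr h

theorem rel_exists_step {s : P.S} {v : Weyl P} {X Z : G ⧸ P.B} (h : rel P (simp' P s * v) X Z) :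
    ∃ Y, rel P (simp' P s) X Y ∧ rel P v Y Z := by
  obtain ⟨g, g'', rfl, rfl, h⟩ := h
  induction v using QuotientGroup.induction_on with | H m => ?_
  obtain ⟨n, hn, c, hc, c', hc', e⟩ := h
  have hq : (⟨s.1, P.subset s.2⟩ * m : P.N).1⁻¹ * n ∈ P.B := (wcl_eq_iff P).1 hn.symm
  refine ⟨QuotientGroup.mk (g * c * (s : G)), ?_, ?_⟩
  · rw [rel_mk]
    have := mul_mem_cell P hc (simp_mem_cell P s) (one_mem P.B)
    convert this using 1
    group
  · rw [rel_mk]
    have := mul_mem_cell P (one_mem P.B) (mem_cell_self P m) (mul_mem hq hc')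
    convert this using 1
    rw [show g'' = g * (c * n * c') by rw [← e]; group]
    show (g * c * (s : G))⁻¹ * (g * (c * n * c')) = 1 * (m : G) * (((s : G) * (m : G))⁻¹ * n * c')
    group

variable [Finite G]

open Classical in
/-- the matrix of a position -/
noncomputable def posMatrix (w : Weyl P) : Matrix (G ⧸ P.B) (G ⧸ P.B) ℝ :=
  Matrix.of fun X Y => if rel P w X Y then 1 else 0

theorem posMatrix_one [DecidableEq (G ⧸ P.B)] : posMatrix P 1 = 1 := by
  ext X Y
  simp only [posMatrix, Matrix.of_apply, rel_one, Matrix.one_apply]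

theorem posMatrix_transpose (w : Weyl P) : (posMatrix P w)ᵀ = posMatrix P w⁻¹ := by
  classical
  ext X Y
  simp only [posMatrix, Matrix.transpose_apply, Matrix.of_apply]
  refine if_congr ⟨fun h => rel_symm P h, fun h => ?_⟩ rfl rfl
  simpa using rel_symm P h

/-- the number of cosets in position `s` to a given one -/
noncomputable def param (s : P.S) : ℕ :=
  Nat.card {Y : G ⧸ P.B // rel P (simp' P s) (QuotientGroup.mk 1) Y}

variable [Fintype (G ⧸ P.B)]

theorem sum_rel_mul (w v : Weyl P) (X Z : G ⧸ P.B) :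
    (posMatrix P w * posMatrix P v) X Z =
      (Nat.card {Y : G ⧸ P.B // rel P w X Y ∧ rel P v Y Z} : ℝ) := by
  classical
  rw [Matrix.mul_apply, Nat.card_eq_fintype_card, Fintype.card_subtype]
  simp only [posMatrix, Matrix.of_apply, ite_mul, one_mul, zero_mul]
  rw [← Finset.sum_filter, Finset.sum_boole, Finset.filter_filter]

theorem posMatrix_simp_mul {s : P.S} {v : Weyl P} (hlen : len P (simp' P s * v) = len P v + 1) :
    posMatrix P (simp' P s) * posMatrix P v = posMatrix P (simp' P s * v) := by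
  classical
  ext X Z
  rw [sum_rel_mul]
  simp only [posMatrix, Matrix.of_apply]
  split_ifs with h
  · obtain ⟨Y, hY1, hY2⟩ := rel_exists_step P h
    rw [Nat.cast_eq_one, Nat.card_eq_one_iff_unique]
    refine ⟨⟨?_⟩, ⟨⟨Y, hY1, hY2⟩⟩⟩
    rintro ⟨Y1, a1, b1⟩ ⟨Y2, a2, b2⟩
    refine Subtype.ext (Classical.byContradiction fun hne => ?_)
    have h12 : rel P (simp' P s) Y1 Y2 := (rel_simp_two P (rel_simp_symm P a1) a2).resolve_left hne
    have := rel_unique P (rel_step P (by omega) h12 b2) b1
    rw [this] at hlen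
    omega
  · rw [Nat.cast_eq_zero, Nat.card_eq_zero]
    exact Or.inl ⟨fun Y => h (rel_step P (by omega) Y.2.1 Y.2.2)⟩

theorem card_rel_simp (s : P.S) (X : G ⧸ P.B) :
    Nat.card {Y : G ⧸ P.B // rel P (simp' P s) X Y} = param P s := by
  induction X using QuotientGroup.induction_on with | H g => ?_
  refine (Nat.card_congr (Equiv.subtypeEquiv (MulAction.toPerm g) fun Y => ?_)).symm
  show rel P _ (QuotientGroup.mk 1) Y ↔ rel P _ (QuotientGroup.mk g) (g • Y)
  constructor
  · intro h
    have := rel_smul P g h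
    rwa [MulAction.Quotient.smul_mk, smul_eq_mul, mul_one] at this
  · intro h
    have := rel_smul P g⁻¹ h
    rwa [MulAction.Quotient.smul_mk, smul_eq_mul, inv_mul_cancel, inv_smul_smul] at this

theorem posMatrix_simp_sq [DecidableEq (G ⧸ P.B)] (s : P.S) : posMatrix P (simp' P s) * posMatrix P (simp' P s) =
    ((param P s : ℝ) - 1) • posMatrix P (simp' P s) + (param P s : ℝ) • (1 : Matrix (G ⧸ P.B) (G ⧸ P.B) ℝ) := by
  classical
  ext X Z
  rw [sum_rel_mul]
  simp only [posMatrix, Matrix.add_apply, Matrix.smul_apply, Matrix.one_apply, Matrix.of_apply,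
    smul_eq_mul]
  by_cases hXZ : X = Z
  · subst hXZ
    have hno : ¬ rel P (simp' P s) X X := fun h =>
      simp_ne_one P s (rel_unique P h ((rel_one P).2 rfl))
    rw [if_neg hno, if_pos rfl, mul_zero, zero_add, mul_one, ← card_rel_simp P s X]
    exact congrArg _ (Nat.card_congr (Equiv.subtypeEquivRight fun Y =>
      ⟨fun h => h.1, fun h => ⟨h, rel_simp_symm P h⟩⟩))
  · rw [if_neg hXZ, mul_zero, add_zero]
    split_ifs with h
    · rw [mul_one, ← card_rel_simp P s X, eq_sub_iff_add_eq]
      have he : Nat.card {Y : G ⧸ P.B // rel P (simp' P s) X Y ∧ rel P (simp' P s) Y Z} + 1 =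
          Nat.card {Y : G ⧸ P.B // rel P (simp' P s) X Y} := by
        rw [Nat.card_eq_fintype_card, Nat.card_eq_fintype_card, Fintype.card_subtype, Fintype.card_subtype]
        have : (Finset.univ.filter fun Y => rel P (simp' P s) X Y ∧ rel P (simp' P s) Y Z) =
            (Finset.univ.filter fun Y => rel P (simp' P s) X Y).erase Z := by
          ext Y
          simp only [Finset.mem_filter, Finset.mem_univ, true_and, Finset.mem_erase]
          refine ⟨fun ⟨h1, h2⟩ => ⟨fun e => ?_, h1⟩, fun ⟨hne, h1⟩ => ⟨h1, ?_⟩⟩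
          · subst e
            exact simp_ne_one P s (rel_unique P h2 ((rel_one P).2 rfl))
          · exact (rel_simp_two P (rel_simp_symm P h1) h).resolve_left hne
        rw [this, Finset.card_erase_add_one (by simpa using h)]
      exact_mod_cast he
    · rw [mul_zero, Nat.cast_eq_zero, Nat.card_eq_zero]
      exact Or.inl ⟨fun Y => ((rel_simp_two P Y.2.1 Y.2.2).elim hXZ h)⟩

omit [Fintype (G ⧸ P.B)] in
theorem two_le_param (s : P.S) : 2 ≤ param P s := by
  rw [param, Nat.succ_le_iff, Finite.one_lt_card_iff_nontrivial]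
  obtain ⟨b, hb, hbs⟩ := exists_conj_mem_cell P s
  refine ⟨⟨QuotientGroup.mk (s : G), ?_⟩, ⟨QuotientGroup.mk (b * (s : G)), ?_⟩, fun e => ?_⟩
  · rw [rel_mk, inv_one, one_mul]; exact simp_mem_cell P s
  · rw [rel_mk, inv_one, one_mul]
    simpa using mul_mem_cell P hb (simp_mem_cell P s) (one_mem _)
  · have h1 := QuotientGroup.eq.1 (congrArg Subtype.val e)
    have h2 : (s : G) * b * s ∈ P.B := by
      have h3 := mul_mem (P.sq_mem s.1 s.2) h1
      convert h3 using 1
      group
    exact simp_ne_one P s (cell_injective P hbs ((mem_cell_one P).2 h2))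

theorem trace_orth {w v : Weyl P} (hne : w ≠ v) :
    Matrix.trace ((posMatrix P w)ᵀ * posMatrix P v) = 0 := by
  classical
  rw [Matrix.trace]
  refine Finset.sum_eq_zero fun X _ => ?_
  rw [Matrix.diag_apply, Matrix.mul_apply]
  refine Finset.sum_eq_zero fun Y _ => ?_
  simp only [posMatrix, Matrix.transpose_apply, Matrix.of_apply]
  split_ifs with h1 h2 <;> first | exact absurd (rel_unique P h1 h2) hne | simp

end CfsgLib.FeitHigman
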