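import Cfsg.Agent.Lib.FeitHigman.Algebra
import Mathlib.Analysis.Matrix.Spectrum
import Mathlib.LinearAlgebra.Matrix.Trace
import Mathlib.NumberTheory.Niven
import Mathlib.NumberTheory.Real.Irrational
import Mathlib.Tactic.IntervalCases

/-!
Two symmetric matrices with quadratic relations, a braid relation of length `m` and orthogonality of the
alternating products force `m ∈ {2, 3, 4, 6, 8}`.
-/

set_option autoImplicit false

namespace CfsgLib.FeitHigman

open Polynomial Matrix

section Monoid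

variable {M : Type*} [Monoid M] (g : Bool → M)

/-- the alternating product beginning with `g i` -/
def alt : Bool → ℕ → M
  | _, 0 => 1
  | i, j + 1 => g i * alt (!i) j

/-- the index following the first `j` letters -/
def after : Bool → ℕ → Bool
  | i, 0 => i
  | i, j + 1 => after (!i) j

theorem after_succ : ∀ (i : Bool) (j : ℕ), after i (j + 1) = !after i j
  | _, 0 => rfl
  | i, j + 1 => by
    show after (!i) (j + 1) = !after i (j + 1)
    rw [after_succ (!i) j]
    rfl

theorem alt_add : ∀ (i : Bool) (j k : ℕ), alt g i (j + k) = alt g i j * alt g (after i j) k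
  | i, 0, k => by simp [alt, after]
  | i, j + 1, k => by
    rw [show j + 1 + k = (j + k) + 1 by omega]
    show g i * alt g (!i) (j + k) = g i * alt g (!i) j * alt g (after (!i) j) k
    rw [alt_add (!i) j k, mul_assoc]

theorem alt_two_mul : ∀ (i : Bool) (k : ℕ), alt g i (2 * k) = (g i * g (!i)) ^ k
  | _, 0 => by simp [alt]
  | i, k + 1 => by
    rw [show 2 * (k + 1) = 2 * k + 1 + 1 by omega]
    show g i * (g (!i) * alt g (!!i) (2 * k)) = _
    rw [Bool.not_not, alt_two_mul i k, pow_succ', mul_assoc]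

theorem alt_two_mul_add_one (i : Bool) : ∀ k : ℕ, alt g i (2 * k + 1) = (g i * g (!i)) ^ k * g i
  | 0 => by simp [alt]
  | k + 1 => by
    rw [show 2 * (k + 1) + 1 = (2 * k + 1) + 1 + 1 by omega]
    show g i * (g (!i) * alt g (!!i) (2 * k + 1)) = _
    rw [Bool.not_not, alt_two_mul_add_one i k, pow_succ', mul_assoc (g i * g (!i)), mul_assoc (g i)]

end Monoid

theorem trace_aeval {n : Type*} [Fintype n] [DecidableEq n] {C0 : Matrix n n ℝ} (hC : C0.IsHermitian)
    (f : ℝ[X]) :
    Matrix.trace (aeval C0 f) = ∑ i, f.eval (hC.eigenvalues i) ∧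
      (aeval C0 f = 0 → ∀ i, f.eval (hC.eigenvalues i) = 0) := by
  set φ := (Unitary.conjStarAlgAut ℝ (Matrix n n ℝ) hC.eigenvectorUnitary) with hφ
  have hsp : C0 = φ (Matrix.diagonal hC.eigenvalues) := by
    conv_lhs => rw [hC.spectral_theorem]
    rfl
  have hdiag : aeval (Matrix.diagonal hC.eigenvalues) f =
      Matrix.diagonal (fun i => f.eval (hC.eigenvalues i)) := by
    rw [show Matrix.diagonal hC.eigenvalues = Matrix.diagonalAlgHom ℝ hC.eigenvalues from rfl,
      Polynomial.aeval_algHom_apply]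
    show Matrix.diagonal (aeval hC.eigenvalues f) = _
    congr 1
    funext i
    have := Polynomial.aeval_algHom_apply (Pi.evalAlgHom ℝ (fun _ : n => ℝ) i) hC.eigenvalues f
    simpa [Polynomial.coe_aeval_eq_eval] using this.symm
  have he : aeval C0 f = φ (Matrix.diagonal (fun i => f.eval (hC.eigenvalues i))) := by
    rw [← hdiag]
    conv_lhs => rw [hsp]
    exact Polynomial.aeval_algHom_apply φ.toAlgEquiv.toAlgHom _ f
  refine ⟨?_, fun h0 i => ?_⟩
  · rw [he, hφ, Unitary.conjStarAlgAut_apply, Matrix.trace_mul_cycle,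
      Unitary.coe_star_mul_self, one_mul, Matrix.trace_diagonal]
  · rw [he, ← map_zero φ] at h0
    have h1 := EquivLike.injective φ h0
    simpa using congrFun (congrFun h1 i) i

/-- the matrices of a rank two system -/
structure Sys {n : Type*} [Fintype n] [DecidableEq n] (g : Bool → Matrix n n ℝ) (q : Bool → ℕ)
    (m : ℕ) : Prop where
  nonempty : Nonempty n
  two_le : 2 ≤ m
  param : ∀ i, 2 ≤ q i
  symm : ∀ i, (g i)ᵀ = g i
  quad : ∀ i, g i * g i = ((q i : ℝ) - 1) • g i + (q i : ℝ) • (1 : Matrix n n ℝ)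
  braid : alt g true m = alt g false m
  orth : ∀ (i i' : Bool) (j k : ℕ), j ≤ m → k ≤ m → j ≠ k → Matrix.trace ((alt g i j)ᵀ * alt g i' k) = 0

namespace Sys

variable {n : Type*} [Fintype n] [DecidableEq n] {g : Bool → Matrix n n ℝ} {q : Bool → ℕ} {m : ℕ}

theorem transpose_alt (h : Sys g q m) : ∀ (i : Bool) (j : ℕ), (alt g i j)ᵀ = alt g (!after i j) j := by
  intro i j
  induction j with
  | zero => simp [alt]
  | succ j ih =>
    rw [alt_add g i j 1, Matrix.transpose_mul, ih]
    show (g (after i j) * 1)ᵀ * _ = _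
    rw [mul_one, h.symm, after_succ, Bool.not_not]
    rfl

theorem trace_alt (h : Sys g q m) (i : Bool) (L : ℕ) (h1 : 1 ≤ L) (h2 : L < 2 * m) :
    Matrix.trace (alt g i L) = 0 := by
  by_cases hL : L ≤ m
  · have := h.orth true i 0 L (Nat.zero_le _) hL (by omega)
    simpa [alt] using this
  · obtain ⟨k, rfl⟩ : ∃ k, L = m + k := ⟨L - m, by omega⟩
    have hm : alt g i m = (alt g (!after i m) m)ᵀ := by
      rw [← h.transpose_alt i m, Matrix.transpose_transpose]
    rw [alt_add, hm]
    exact h.orth _ _ _ _ le_rfl (by omega) (by omega)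

/-- products of the parameters along an alternating word -/
def weight (q : Bool → ℕ) : Bool → ℕ → ℝ
  | _, 0 => 1
  | i, j + 1 => (q i : ℝ) * weight q (!i) j

theorem trace_sq (h : Sys g q m) : ∀ (j : ℕ) (i : Bool), j ≤ m →
    Matrix.trace ((alt g i j)ᵀ * alt g i j) = weight q i j * (Fintype.card n : ℝ)
  | 0, i, _ => by simp [alt, weight, Matrix.trace_one]
  | j + 1, i, hj => by
    have ho := h.orth (!i) i j (j + 1) (by omega) hj (by omega)
    have hs := trace_sq h j (!i) (by omega)
    have e : (alt g i (j + 1))ᵀ * alt g i (j + 1) =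
        ((q i : ℝ) - 1) • ((alt g (!i) j)ᵀ * alt g i (j + 1)) + (q i : ℝ) • ((alt g (!i) j)ᵀ * alt g (!i) j) := by
      show (g i * alt g (!i) j)ᵀ * (g i * alt g (!i) j) = _ • ((alt g (!i) j)ᵀ * (g i * alt g (!i) j)) + _
      rw [Matrix.transpose_mul, h.symm, mul_assoc, ← mul_assoc (g i) (g i), h.quad, add_mul,
        smul_mul_assoc, smul_mul_assoc, one_mul, mul_add, mul_smul_comm, mul_smul_comm]
    rw [e, Matrix.trace_add, Matrix.trace_smul, Matrix.trace_smul, ho, hs, smul_eq_mul, smul_eq_mul]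
    show _ = (q i : ℝ) * weight q (!i) j * _
    ring

theorem weight_mul (q : Bool → ℕ) : ∀ (j : ℕ) (i : Bool),
    weight q i j * weight q (!i) j = ((q true : ℝ) * q false) ^ j
  | 0, i => by simp [weight]
  | j + 1, i => by
    show (q i : ℝ) * weight q (!i) j * ((q (!i) : ℝ) * weight q (!!i) j) = _
    have := weight_mul q j i
    rw [Bool.not_not, pow_succ, ← this]
    cases i <;> simp only [Bool.not_true, Bool.not_false] <;> ring

theorem weight_nonneg (q : Bool → ℕ) : ∀ (j : ℕ) (i : Bool), 0 ≤ weight q i j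
  | 0, i => by simp [weight]
  | j + 1, i => mul_nonneg (Nat.cast_nonneg _) (weight_nonneg q j (!i))

theorem weight_two_mul_add_one (q : Bool → ℕ) : ∀ (k : ℕ) (i : Bool),
    weight q i (2 * k + 1) = (q i : ℝ) * ((q true : ℝ) * q false) ^ k
  | 0, i => by simp [weight]
  | k + 1, i => by
    rw [show 2 * (k + 1) + 1 = (2 * k + 1) + 1 + 1 by omega]
    show (q i : ℝ) * ((q (!i) : ℝ) * weight q (!!i) (2 * k + 1)) = _
    rw [Bool.not_not, weight_two_mul_add_one q k i, pow_succ]
    cases i <;> simp only [Bool.not_true, Bool.not_false] <;> ring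

variable (h : Sys g q m)
include h

theorem param_eq_of_odd (hm : Odd m) : q true = q false := by
  obtain ⟨k, rfl⟩ := hm
  haveI := h.nonempty
  have h1 := h.trace_sq _ true le_rfl
  have h2 := h.trace_sq _ false le_rfl
  rw [h.braid, h2, weight_two_mul_add_one, weight_two_mul_add_one] at h1
  have hp : ((q true : ℝ) * q false) ^ k ≠ 0 := pow_ne_zero _ (mul_ne_zero
    (Nat.cast_ne_zero.2 (by have := h.param true; omega)) (Nat.cast_ne_zero.2 (by have := h.param false; omega)))
  have hc : (Fintype.card n : ℝ) ≠ 0 := Nat.cast_ne_zero.2 Fintype.card_ne_zero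
  exact_mod_cast (mul_right_cancel₀ hp (mul_right_cancel₀ hc h1)).symm

theorem traceData {r : ℝ} (hr : 0 ≤ r) (hrs : r ^ 2 = (q true : ℝ) * q false) :
    HeckePair.TraceData (g true) (g false) (Matrix.traceLinearMap n ℝ ℝ) (Fintype.card n : ℝ)
      ((Fintype.card n : ℝ) * r ^ m) m := by
  refine ⟨fun u v => Matrix.trace_mul_comm u v, Matrix.trace_one, fun k hk => ?_, ?_,
    fun k hk => ?_, fun k hk => ?_⟩
  · show Matrix.trace _ = 0
    have e := alt_two_mul g true (k + 1)
    rw [Bool.not_true] at e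
    rw [← e]
    exact h.trace_alt _ _ (by omega) (by omega)
  · show Matrix.trace _ = _
    have e := alt_two_mul g true m
    rw [Bool.not_true] at e
    rw [← e, show 2 * m = m + m by omega, alt_add]
    have hW : ∀ i : Bool, alt g i m = alt g true m := fun i => by
      cases i
      · exact h.braid.symm
      · rfl
    have ht : (alt g true m)ᵀ = alt g true m := (h.transpose_alt _ _).trans (hW _)
    rw [hW (after true m)]
    conv_lhs => arg 1; arg 1; rw [← ht]
    rw [h.trace_sq m true le_rfl]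
    have h1 := h.trace_sq m false le_rfl
    rw [hW false, h.trace_sq m true le_rfl] at h1
    haveI := h.nonempty
    have hw : weight q true m = weight q false m :=
      mul_right_cancel₀ (Nat.cast_ne_zero.2 Fintype.card_ne_zero) h1
    have h2 := weight_mul q m true
    rw [Bool.not_true, ← hw, ← hrs, ← sq, ← pow_mul, mul_comm 2 m, pow_mul] at h2
    rw [(pow_left_inj₀ (weight_nonneg q m true) (pow_nonneg hr m) two_ne_zero).1 h2, mul_comm]
  · show Matrix.trace _ = 0
    have e := alt_two_mul_add_one g true k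
    rw [Bool.not_true] at e
    rw [← e]
    exact h.trace_alt _ _ (by omega) (by omega)
  · show Matrix.trace _ = 0
    have e := alt_two_mul_add_one g false k
    rw [Bool.not_false] at e
    rw [← e]
    exact h.trace_alt _ _ (by omega) (by omega)

theorem heckePair : HeckePair (g true) (g false) (q true : ℝ) (q false : ℝ) :=
  ⟨h.quad true, h.quad false⟩

theorem isHermitian_cen : (cen (g true) (g false) (q true : ℝ) (q false : ℝ)).IsHermitian := by
  rw [Matrix.IsHermitian, Matrix.conjTranspose_eq_transpose_of_trivial, cen]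
  simp only [Matrix.transpose_add, Matrix.transpose_sub, Matrix.transpose_mul, Matrix.transpose_smul,
    Matrix.transpose_one, h.symm]
  abel

/-- the multiplicity equation of the eigenvalue `2 r cos θ` -/
theorem multiplicity {r θ : ℝ} (hr : 0 < r) (hrs : r ^ 2 = (q true : ℝ) * q false)
    (hsin : Real.sin θ ≠ 0) (hmθ : Real.sin ((m : ℝ) * θ) = 0) (hcos : Real.cos ((m : ℝ) * θ) = 1) :
    ∃ μ : ℕ, (μ : ℝ) * m * ((2 * r * Real.cos θ - (r ^ 2 + 1)) * (2 * r * Real.cos θ + ((q true : ℝ) + q false))) =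
      2 * (Fintype.card n : ℝ) * ((2 * r * Real.cos θ) ^ 2 - 4 * r ^ 2) := by
  set c := 2 * r * Real.cos θ with hc
  set C0 := cen (g true) (g false) (q true : ℝ) (q false : ℝ) with hC0
  set W : ℝ[X] := (X - C ((q true : ℝ) * q false + 1)) * (X + C ((q true : ℝ) + q false)) with hW
  have hH := h.isHermitian_cen
  have hP := h.heckePair
  have hτ := h.traceData hr.le hrs
  obtain ⟨m', rfl⟩ : ∃ m', m = m' + 2 := ⟨m - 2, by have := h.two_le; omega⟩
  -- evaluation at `c`
  have hroot : (scaledU (r ^ 2) (m' + 1)).eval c = 0 := by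
    have e := eval_cos r θ (m' + 1)
    rw [← hc, show ((m' + 1 : ℕ) : ℝ) + 1 = ((m' + 2 : ℕ) : ℝ) by push_cast; ring, hmθ, mul_zero] at e
    exact (mul_eq_zero.1 e).resolve_right hsin
  have hlow : (scaledU (r ^ 2) m').eval c = - r ^ m' := by
    have e := eval_cos r θ m'
    rw [← hc, show ((m' : ℝ) + 1) * θ = ((m' + 2 : ℕ) : ℝ) * θ - θ by push_cast; ring, Real.sin_sub,
      hmθ, hcos] at e
    exact mul_right_cancel₀ hsin (e.trans (by ring))
  have hder : (c ^ 2 - 4 * r ^ 2) * (divDiff (r ^ 2) c (m' + 1)).eval c =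
      2 * (m' + 2) * r ^ 2 * r ^ m' := by
    rw [divDiff_eval_identity, hroot, hlow]
    ring
  -- the product of `U` and the weight annihilates the central element
  have hkill : aeval C0 (scaledU (r ^ 2) (m' + 1) * W) = 0 := by
    have hpow : (g true * g false) ^ (m' + 2) = (g false * g true) ^ (m' + 2) := by
      have e1 := alt_two_mul g true (m' + 2)
      have e2 := alt_two_mul g false (m' + 2)
      rw [Bool.not_true] at e1
      rw [Bool.not_false] at e2
      rw [← e1, ← e2, two_mul (m' + 2), alt_add g true (m' + 2) (m' + 2),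
        alt_add g false (m' + 2) (m' + 2)]
      have hall : ∀ i : Bool, alt g i (m' + 2) = alt g true (m' + 2) := fun i => by
        cases i
        · exact h.braid.symm
        · rfl
      rw [hall false, hall (after true _), hall (after false _)]
    have e := hP.pow_sub_pow (m' + 1)
    rw [hpow, sub_self] at e
    rw [map_mul, hW, ← hP.commutator_sq, hrs, ← mul_assoc, ← e, zero_mul]
  -- the trace functional
  let L : ℝ[X] →ₗ[ℝ] ℝ := (Matrix.traceLinearMap n ℝ ℝ).comp
    ((aeval C0).toLinearMap.comp (LinearMap.mulRight ℝ W))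
  have hL : ∀ k, k ≤ m' → L (scaledU (r ^ 2) k) =
      (if k = 0 then -2 * r ^ 2 * (Fintype.card n : ℝ) else 0) +
        (if k = m' then 2 * ((Fintype.card n : ℝ) * r ^ (m' + 2)) else 0) := by
    intro k hk
    have := HeckePair.tau_weight_scaledU hP hτ k (by omega)
    rw [← hrs] at this
    simp only [add_left_inj] at this
    rw [← this]
    show Matrix.trace (aeval C0 (scaledU (r ^ 2) k * W)) = _
    rw [hW, ← hrs]
    rfl
  have hLtop : L (divDiff (r ^ 2) c (m' + 1)) = 4 * (Fintype.card n : ℝ) * r ^ (m' + 2) := by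
    cases m' with
    | zero =>
      exfalso
      simp [scaledU] at hlow
      linarith
    | succ K =>
      rw [apply_divDiff_top (r ^ 2) c L (-2 * r ^ 2 * (Fintype.card n : ℝ))
        (2 * ((Fintype.card n : ℝ) * r ^ (K + 1 + 2))) K ?_ ?_ ?_, hlow]
      · ring
      · rw [hL 0 (Nat.zero_le _)]; simp
      · intro k h1 h2
        rw [hL k (by omega), if_neg (by omega), if_neg (by omega), add_zero]
      · rw [hL (K + 1) le_rfl, if_neg (by omega), if_pos rfl, zero_add]
  -- spectral evaluation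
  obtain ⟨htr, -⟩ := trace_aeval hH (divDiff (r ^ 2) c (m' + 1) * W)
  obtain ⟨-, hzero⟩ := trace_aeval hH (scaledU (r ^ 2) (m' + 1) * W)
  have hzero' := hzero hkill
  classical
  set μ := (Finset.univ.filter fun i => hH.eigenvalues i = c).card with hμ
  have hsum : ∑ i, (divDiff (r ^ 2) c (m' + 1) * W).eval (hH.eigenvalues i) =
      μ * (divDiff (r ^ 2) c (m' + 1) * W).eval c := by
    rw [← Finset.sum_filter_add_sum_filter_not Finset.univ (fun i => hH.eigenvalues i = c),
      Finset.sum_congr rfl (fun i hi => by rw [(Finset.mem_filter.1 hi).2]), Finset.sum_const,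
      nsmul_eq_mul]
    refine (add_eq_left).2 (Finset.sum_eq_zero fun i hi => ?_)
    have hne := (Finset.mem_filter.1 hi).2
    have h0 := hzero' i
    rw [eval_mul] at h0 ⊢
    rcases mul_eq_zero.1 h0 with h0 | h0
    · have e := congrArg (Polynomial.eval (hH.eigenvalues i)) (sub_eval_eq (r ^ 2) c (m' + 1))
      simp only [hroot, map_zero, sub_zero, eval_mul, eval_sub, eval_X, eval_C, h0] at e
      rw [(mul_eq_zero.1 e.symm).resolve_left (sub_ne_zero.2 hne), zero_mul]
    · rw [h0, mul_zero]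
  refine ⟨μ, ?_⟩
  have hfin : (μ : ℝ) * ((divDiff (r ^ 2) c (m' + 1)).eval c * W.eval c) =
      4 * (Fintype.card n : ℝ) * r ^ (m' + 2) := by
    rw [← eval_mul, ← hsum, ← htr, ← hLtop]
    rfl
  have hWc : W.eval c = (c - (r ^ 2 + 1)) * (c + ((q true : ℝ) + q false)) := by
    simp [hW, hrs]
  rw [hWc] at hfin
  have hne : r ^ 2 * r ^ m' ≠ 0 := by positivity
  apply mul_left_cancel₀ (mul_ne_zero two_ne_zero hne)
  push_cast
  linear_combination (c ^ 2 - 4 * r ^ 2) * hfin -
    (μ : ℝ) * (c - (r ^ 2 + 1)) * (c + ((q true : ℝ) + q false)) * hder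

/-- the eigenvalues are rational -/
theorem rational {r : ℝ} (hr : 0 < r) (hrs : r ^ 2 = (q true : ℝ) * q false) (i : ℕ) (hi : 1 ≤ i)
    (him : 2 * i < m) :
    ∃ z : ℚ, 2 * r * Real.cos (2 * Real.pi * i / m) = z := by
  haveI := h.nonempty
  have hm0 : (0 : ℝ) < m := Nat.cast_pos.2 (by omega)
  have hN : (0 : ℝ) < Fintype.card n := Nat.cast_pos.2 Fintype.card_pos
  have hx : (2 : ℝ) ≤ q true := by exact_mod_cast h.param true
  have hy : (2 : ℝ) ≤ q false := by exact_mod_cast h.param false
  have key : ∀ j : ℕ, 1 ≤ j → 2 * j < m → ∀ c : ℝ, c = 2 * r * Real.cos (2 * Real.pi * j / m) →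
      c ^ 2 < 4 * r ^ 2 ∧ ∃ μ : ℕ,
        (μ : ℝ) * m * ((c - (r ^ 2 + 1)) * (c + ((q true : ℝ) + q false))) =
          2 * (Fintype.card n : ℝ) * (c ^ 2 - 4 * r ^ 2) := by
    intro j hj hjm c hc
    have hθ : (m : ℝ) * (2 * Real.pi * j / m) = j * (2 * Real.pi) := by field_simp
    have hs : 0 < Real.sin (2 * Real.pi * j / m) := by
      refine Real.sin_pos_of_pos_of_lt_pi (by have : (1 : ℝ) ≤ j := (by exact_mod_cast hj); positivity) ?_
      rw [div_lt_iff₀ hm0]
      have : (2 : ℝ) * j < m := by exact_mod_cast hjm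
      nlinarith [Real.pi_pos]
    refine ⟨?_, ?_⟩
    · have := Real.sin_sq_add_cos_sq (2 * Real.pi * j / m)
      have h2 : 0 < r ^ 2 * Real.sin (2 * Real.pi * j / m) ^ 2 := by positivity
      subst hc
      nlinarith
    · subst hc
      exact h.multiplicity hr hrs hs.ne'
        (by rw [hθ, show (j : ℝ) * (2 * Real.pi) = ((2 * j : ℕ) : ℝ) * Real.pi by push_cast; ring]
            exact Real.sin_nat_mul_pi _)
        (by rw [hθ]; exact Real.cos_nat_mul_two_pi j)
  set c := 2 * r * Real.cos (2 * Real.pi * i / m) with hc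
  obtain ⟨hc2, μ, hμ⟩ := key i hi him c hc
  set K : ℝ := 2 * (Fintype.card n : ℝ) with hK
  set M : ℝ := (μ : ℝ) * m with hM
  rcases Nat.even_or_odd m with heven | hodd
  · -- the conjugate pairs `c` and `-c` contradict each other
    obtain ⟨l, hl⟩ := heven
    have hneg : -c = 2 * r * Real.cos (2 * Real.pi * ((l - i : ℕ) : ℝ) / m) := by
      rw [Nat.cast_sub (by omega), show 2 * Real.pi * ((l : ℝ) - i) / m = Real.pi - 2 * Real.pi * i / m by
        rw [eq_sub_iff_add_eq, ← add_div, div_eq_iff hm0.ne', hl]; push_cast; ring, Real.cos_pi_sub, hc]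
      ring
    obtain ⟨-, μ', hμ'⟩ := key (l - i) (by omega) (by omega) (-c) hneg
    set M' : ℝ := (μ' : ℝ) * m with hM'
    have hcr : (c + 2 * r) * (c - 2 * r) < 0 := by nlinarith
    have hlo : -(2 * r) < c := by nlinarith
    have hhi : c < 2 * r := by nlinarith
    have hxy : 2 * r ≤ (q true : ℝ) + q false := by nlinarith [sq_nonneg ((q true : ℝ) - q false)]
    have h1 : 0 < (r ^ 2 + 1 - c) := by nlinarith [sq_nonneg (r - 1)]
    have hd : ∀ d : ℝ, -(2 * r) < d → d < 2 * r → ∀ M : ℝ,
        M * ((d - (r ^ 2 + 1)) * (d + ((q true : ℝ) + q false))) = K * (d ^ 2 - 4 * r ^ 2) →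
        0 < M ∧ M < K := by
      intro d hd1 hd2 M hMd
      have ha : 0 < r ^ 2 + 1 - d := by nlinarith [sq_nonneg (r - 1)]
      have hb : 0 < d + ((q true : ℝ) + q false) := by linarith
      have hD : (d - (r ^ 2 + 1)) * (d + ((q true : ℝ) + q false)) < 0 := by
        nlinarith [mul_pos ha hb]
      have hn : d ^ 2 - 4 * r ^ 2 < 0 := by nlinarith
      have hKpos : 0 < K := by positivity
      have hgap : (d - (r ^ 2 + 1)) * (d + ((q true : ℝ) + q false)) < d ^ 2 - 4 * r ^ 2 := by
        have hE : 0 < r ^ 2 + 1 - ((q true : ℝ) + q false) := by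
          nlinarith [mul_pos (show (0 : ℝ) < (q true : ℝ) - 1 by linarith)
            (show (0 : ℝ) < (q false : ℝ) - 1 by linarith)]
        nlinarith [mul_pos (show (0:ℝ) < d + 2 * r by linarith) hE,
          mul_nonneg (show (0:ℝ) ≤ (2 * r + (r ^ 2 + 1)) by positivity) (sub_nonneg.2 hxy)]
      constructor
      · by_contra hle
        push Not at hle
        nlinarith [mul_nonneg (neg_nonneg.2 hle) (neg_pos.2 hD).le, mul_pos hKpos (neg_pos.2 hn)]
      · by_contra hle
        push Not at hle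
        nlinarith [mul_le_mul_of_nonpos_right hle hD.le, mul_pos hKpos (sub_pos.2 hgap)]
    obtain ⟨hM0, hMK⟩ := hd c hlo hhi M hμ
    obtain ⟨hM0', hMK'⟩ := hd (-c) (by linarith) (by linarith) M' hμ'
    set e : ℝ := ((q true : ℝ) + q false) - (r ^ 2 + 1) with he
    set f : ℝ := (r ^ 2 + 1) * ((q true : ℝ) + q false) with hf
    have hlin : c * (e * (M * (M' - K) + M' * (M - K))) =
        (M' - K) * (M * f - 4 * K * r ^ 2) - (M - K) * (M' * f - 4 * K * r ^ 2) := by
      linear_combination (M' - K) * hμ - (M - K) * hμ'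
    have he0 : e < 0 := by
      rw [he, hrs]
      nlinarith
    have hne : e * (M * (M' - K) + M' * (M - K)) ≠ 0 :=
      mul_ne_zero he0.ne (by nlinarith [mul_neg_of_pos_of_neg hM0 (sub_neg.2 hMK'),
        mul_neg_of_pos_of_neg hM0' (sub_neg.2 hMK)])
    refine ⟨(((μ' : ℚ) * m - 2 * (Fintype.card n : ℚ)) * ((μ : ℚ) * m * (((q true : ℚ) * q false + 1) * ((q true : ℚ) + q false)) - 4 * (2 * (Fintype.card n : ℚ)) * ((q true : ℚ) * q false)) - ((μ : ℚ) * m - 2 * (Fintype.card n : ℚ)) * ((μ' : ℚ) * m * (((q true : ℚ) * q false + 1) * ((q true : ℚ) + q false)) - 4 * (2 * (Fintype.card n : ℚ)) * ((q true : ℚ) * q false))) / ((((q true : ℚ) + q false) - ((q true : ℚ) * q false + 1)) * ((μ : ℚ) * m * ((μ' : ℚ) * m - 2 * (Fintype.card n : ℚ)) + (μ' : ℚ) * m * ((μ : ℚ) * m - 2 * (Fintype.card n : ℚ)))), ?_⟩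
    push_cast
    rw [← hrs, ← hM, ← hM', ← hK, ← he, ← hf, eq_div_iff hne, hlin]
  · have hxy := h.param_eq_of_odd hodd
    have hrq : r = (q true : ℝ) := by
      have : r ^ 2 = (q true : ℝ) ^ 2 := by rw [hrs, hxy]; ring
      exact (pow_left_inj₀ hr.le (Nat.cast_nonneg _) two_ne_zero).1 this
    rw [hrq, show (q false : ℝ) = q true by rw [hxy]] at hμ
    rw [hrq] at hc2
    set x : ℝ := (q true : ℝ) with hxdef
    have hc3 : c + 2 * x ≠ 0 := by intro e; nlinarith
    have h2 : M * (c - (x ^ 2 + 1)) = K * (c - 2 * x) := mul_right_cancel₀ hc3 (by linear_combination hμ)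
    have hMK : M - K ≠ 0 := by
      intro e
      rw [sub_eq_zero.1 e] at h2
      have := mul_left_cancel₀ (by positivity : K ≠ 0) h2
      nlinarith
    refine ⟨((μ : ℚ) * m * ((q true : ℚ) ^ 2 + 1) - 2 * (Fintype.card n : ℚ) * (2 * (q true : ℚ))) /
      ((μ : ℚ) * m - 2 * (Fintype.card n : ℚ)), ?_⟩
    push_cast
    rw [← hxdef, ← hM, ← hK, eq_div_iff hMK]
    linear_combination h2

/-- Feit–Higman -/
theorem gon_mem : m ∈ ({2, 3, 4, 6, 8} : Set ℕ) := by
  have hm2 := h.two_le
  have hx : (0 : ℝ) < q true := Nat.cast_pos.2 (by have := h.param true; omega)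
  have hy : (0 : ℝ) < q false := Nat.cast_pos.2 (by have := h.param false; omega)
  set r := Real.sqrt ((q true : ℝ) * q false) with hrdef
  have hr : 0 < r := Real.sqrt_pos.2 (mul_pos hx hy)
  have hrs : r ^ 2 = (q true : ℝ) * q false := Real.sq_sqrt (mul_pos hx hy).le
  by_contra hmem
  simp only [Set.mem_insert_iff, Set.mem_singleton_iff, not_or] at hmem
  obtain ⟨z, hz⟩ := h.rational hr hrs 1 le_rfl (by omega)
  rw [Nat.cast_one, mul_one] at hz
  by_cases h12 : m = 12
  · obtain ⟨w, hw⟩ := h.rational hr hrs 2 (by norm_num) (by omega)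
    subst h12
    rw [show 2 * Real.pi / ((12 : ℕ) : ℝ) = Real.pi / 6 by push_cast; ring, Real.cos_pi_div_six] at hz
    rw [show 2 * Real.pi * ((2 : ℕ) : ℝ) / ((12 : ℕ) : ℝ) = Real.pi / 3 by push_cast; ring,
      Real.cos_pi_div_three] at hw
    have hw0 : (w : ℝ) ≠ 0 := by rw [← hw]; positivity
    have hirr : Irrational (Real.sqrt ((3 : ℕ) : ℝ)) := Nat.prime_three.irrational_sqrt
    rw [Nat.cast_ofNat] at hirr
    refine hirr ⟨z / w, ?_⟩
    rw [Rat.cast_div, div_eq_iff hw0, ← hz, ← hw]
    ring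
  · have hbig : 3 < ((4 : ℚ) / m).den := by
      have hden : ((4 : ℚ) / m).den = m / Nat.gcd 4 m := by
        rw [show (4 : ℚ) / m = ((4 : ℤ) : ℚ) / ((m : ℤ) : ℚ) by push_cast; ring, ← Rat.divInt_eq_div,
          Rat.den_divInt]
        simp [Int.gcd, show m ≠ 0 by omega, Nat.gcd_comm m 4]
      rw [hden]
      have hg : Nat.gcd 4 m ∣ 4 := Nat.gcd_dvd_left 4 m
      have hgm : Nat.gcd 4 m ∣ m := Nat.gcd_dvd_right 4 m
      have hle : Nat.gcd 4 m ≤ 4 := Nat.le_of_dvd (by norm_num) hg
      interval_cases hg' : Nat.gcd 4 m <;> omega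
    refine (irrational_cos_rat_mul_pi hbig) ⟨z ^ 2 / (2 * (q true : ℚ) * q false) - 1, ?_⟩
    push_cast
    rw [show (4 : ℝ) / m * Real.pi = 2 * (2 * Real.pi / m) by ring, Real.cos_two_mul, ← hz]
    field_simp
    rw [← hrs]
    ring

end Sys

end CfsgLib.FeitHigman
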