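import Mathlib.Analysis.SpecialFunctions.Trigonometric.Basic
import Mathlib.Algebra.Polynomial.AlgebraMap
import Mathlib.Tactic.LinearCombination
import Mathlib.Tactic.Ring

/-!
Scaled Chebyshev polynomials of the second kind, their divided differences, and their values at
`2 r cos θ`.
-/

set_option autoImplicit false

namespace CfsgLib.FeitHigman

open Polynomial

/-- `U 0 = 1`, `U 1 = X`, `U (k + 2) = X U (k + 1) - s U k`. -/
noncomputable def scaledU (s : ℝ) : ℕ → ℝ[X]
  | 0 => 1
  | 1 => X
  | k + 2 => X * scaledU s (k + 1) - C s * scaledU s k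

/-- The divided difference of `U k` at `c`. -/
noncomputable def divDiff (s c : ℝ) : ℕ → ℝ[X]
  | 0 => 0
  | 1 => 1
  | k + 2 => scaledU s (k + 1) + C c * divDiff s c (k + 1) - C s * divDiff s c k

variable (s c : ℝ)

theorem scaledU_zero : scaledU s 0 = 1 := rfl
theorem scaledU_one : scaledU s 1 = X := rfl
theorem scaledU_add_two (k : ℕ) :
    scaledU s (k + 2) = X * scaledU s (k + 1) - C s * scaledU s k := rfl

theorem eval_scaledU_add_two (k : ℕ) :
    (scaledU s (k + 2)).eval c = c * (scaledU s (k + 1)).eval c - s * (scaledU s k).eval c := by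
  simp [scaledU_add_two]

/-- the defining property of the divided difference -/
theorem sub_eval_eq : ∀ k : ℕ,
    scaledU s k - C ((scaledU s k).eval c) = (X - C c) * divDiff s c k
  | 0 => by simp [scaledU, divDiff]
  | 1 => by simp [scaledU, divDiff]
  | k + 2 => by
    have h1 := sub_eval_eq (k + 1)
    have h0 := sub_eval_eq k
    rw [eval_scaledU_add_two, scaledU_add_two, divDiff, map_sub, map_mul, map_mul]
    linear_combination C c * h1 - C s * h0

theorem divDiff_eval_identity : ∀ k : ℕ, (c ^ 2 - 4 * s) * (divDiff s c (k + 1)).eval c =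
    (k + 1) * c * (scaledU s (k + 1)).eval c - 2 * (k + 2) * s * (scaledU s k).eval c
  | 0 => by simp [scaledU, divDiff]; ring
  | 1 => by simp [scaledU, divDiff]; ring
  | k + 2 => by
    have h1 : (c ^ 2 - 4 * s) * (divDiff s c (k + 2)).eval c =
        (k + 2) * c * (scaledU s (k + 2)).eval c - 2 * (k + 3) * s * (scaledU s (k + 1)).eval c := by
      have := divDiff_eval_identity (k + 1)
      push_cast at this
      linear_combination this
    have h0 := divDiff_eval_identity k
    have e : (divDiff s c (k + 3)).eval c = (scaledU s (k + 2)).eval c +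
        c * (divDiff s c (k + 2)).eval c - s * (divDiff s c (k + 1)).eval c := by
      simp [divDiff]
    show (c ^ 2 - 4 * s) * (divDiff s c (k + 3)).eval c = _
    rw [e, eval_scaledU_add_two s c (k + 1)]
    push_cast
    linear_combination c * h1 - s * h0 +
      2 * ((k : ℝ) + 2) * s * eval_scaledU_add_two s c k

/-- values of a functional on the divided differences -/
theorem apply_divDiff (L : ℝ[X] →ₗ[ℝ] ℝ) (A : ℝ) (K : ℕ) (h0 : L (scaledU s 0) = A)
    (h : ∀ k : ℕ, 1 ≤ k → k < K → L (scaledU s k) = 0) :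
    ∀ j : ℕ, j + 1 ≤ K → L (divDiff s c (j + 1)) = A * (scaledU s j).eval c
  | 0, _ => by
    show L 1 = A * _
    rw [← scaledU_zero s, h0]
    simp [scaledU]
  | 1, hj => by
    have e : divDiff s c 2 = scaledU s 1 + c • scaledU s 0 := by
      simp [divDiff, scaledU, smul_eq_C_mul]
    rw [e, map_add, map_smul, h0, h 1 le_rfl (by omega)]
    simp [scaledU, mul_comm]
  | j + 2, hj => by
    have e : divDiff s c (j + 3) = scaledU s (j + 2) + c • divDiff s c (j + 2) - s • divDiff s c (j + 1) := by
      simp [divDiff, smul_eq_C_mul]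
    rw [e, map_sub, map_add, map_smul, map_smul, h (j + 2) (by omega) (by omega),
      apply_divDiff L A K h0 h (j + 1) (by omega), apply_divDiff L A K h0 h j (by omega),
      eval_scaledU_add_two]
    simp only [smul_eq_mul]
    ring

/-- the top case -/
theorem apply_divDiff_top (L : ℝ[X] →ₗ[ℝ] ℝ) (A E : ℝ) (K : ℕ)
    (h0 : L (scaledU s 0) = A) (h : ∀ k : ℕ, 1 ≤ k → k < K + 1 → L (scaledU s k) = 0)
    (htop : L (scaledU s (K + 1)) = E) :
    L (divDiff s c (K + 2)) = A * (scaledU s (K + 1)).eval c + E := by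
  have e : divDiff s c (K + 2) = scaledU s (K + 1) + c • divDiff s c (K + 1) - s • divDiff s c K := by
    simp [divDiff, smul_eq_C_mul]
  rw [e, map_sub, map_add, map_smul, map_smul, htop,
    apply_divDiff s c L A (K + 1) h0 h K le_rfl]
  simp only [smul_eq_mul]
  cases K with
  | zero => simp [divDiff, scaledU]; ring
  | succ j =>
    rw [apply_divDiff s c L A (j + 2) h0 h j (by omega), eval_scaledU_add_two]
    ring

theorem eval_cos (r θ : ℝ) : ∀ k : ℕ,
    (scaledU (r ^ 2) k).eval (2 * r * Real.cos θ) * Real.sin θ = r ^ k * Real.sin ((k + 1) * θ)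
  | 0 => by simp [scaledU]
  | 1 => by simp [scaledU, one_add_one_eq_two, Real.sin_two_mul]; ring
  | k + 2 => by
    have h1 := eval_cos r θ (k + 1)
    have h0 := eval_cos r θ k
    rw [eval_scaledU_add_two]
    push_cast at h1 ⊢
    have e : Real.sin ((k + 2 + 1) * θ) + Real.sin ((k + 1) * θ) =
        2 * Real.cos θ * Real.sin ((k + 1 + 1) * θ) := by
      rw [show ((k : ℝ) + 2 + 1) * θ = (k + 1 + 1) * θ + θ by ring,
        show ((k : ℝ) + 1) * θ = (k + 1 + 1) * θ - θ by ring, Real.sin_add, Real.sin_sub]
      ring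
    linear_combination (2 * r * Real.cos θ) * h1 - r ^ 2 * h0 - r ^ (k + 2) * e

end CfsgLib.FeitHigman
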