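import Cfsg.Agent.Lib.FeitHigman.Coset

/-!
The Weyl group of a rank two pair is dihedral of order `2 m`; the coset matrices form a rank two
system, so `m ∈ {2, 3, 4, 6, 8}`.
-/

set_option autoImplicit false

namespace CfsgLib.FeitHigman

open CfsgLib.BNPair

variable {G : Type*} [Group G] (P : Cfsg.BNPair G) (γ : Bool → P.S)

/-- the alternating element of the Weyl group -/
def wordW (i : Bool) (j : ℕ) : Weyl P := alt (fun b => simp' P (γ b)) i j

/-- the rotation -/
def rot : Weyl P := simp' P (γ true) * simp' P (γ false)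

theorem wordW_succ (i : Bool) (j : ℕ) : wordW P γ i (j + 1) = simp' P (γ i) * wordW P γ (!i) j := rfl

theorem len_wordW_le : ∀ (j : ℕ) (i : Bool), len P (wordW P γ i j) ≤ j
  | 0, i => le_of_eq (len_one P)
  | j + 1, i => (len_simp_mul_le P _ _).trans (Nat.add_le_add_right (len_wordW_le j (!i)) 1)

theorem len_wordW_parity : ∀ (j : ℕ) (i : Bool), len P (wordW P γ i j) % 2 = j % 2
  | 0, i => by rw [show wordW P γ i 0 = 1 from rfl, len_one]
  | j + 1, i => by
    have h := len_wordW_parity j (!i)
    rcases len_simp_mul_cases P (γ i) (wordW P γ (!i) j) with h1 | h1 <;> rw [← wordW_succ] at h1 <;>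
      omega

theorem exists_wordW (hγ : Function.Surjective γ) :
    ∀ (k : ℕ) (w : Weyl P), len P w = k → ∃ i, w = wordW P γ i k
  | 0, w, h => ⟨true, len_eq_zero P h⟩
  | k + 1, w, h => by
    obtain ⟨s, v, hv, rfl⟩ := exists_head P h
    obtain ⟨i, hi⟩ := exists_wordW hγ k v hv
    obtain ⟨j, rfl⟩ := hγ s
    cases k with
    | zero => exact ⟨j, by rw [len_eq_zero P hv]; rfl⟩
    | succ k =>
      by_cases hj : i = j
      · subst hj
        have := len_wordW_le P γ k (!i)
        rw [hi, wordW_succ, simp_mul_cancel] at h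
        omega
      · refine ⟨j, ?_⟩
        rw [hi, wordW_succ P γ j, show (!j) = i by cases i <;> cases j <;> simp_all]

/-- the exponent of the rotation in an alternating element -/
def expo (i : Bool) (j : ℕ) : ℤ :=
  if i then ((j / 2 : ℕ) : ℤ) else -((j / 2 + j % 2 : ℕ) : ℤ)

theorem wordW_eq (i : Bool) (j : ℕ) :
    wordW P γ i j = rot P γ ^ expo i j * simp' P (γ true) ^ (j % 2) := by
  have hinv : simp' P (γ false) * simp' P (γ true) = (rot P γ)⁻¹ := by
    rw [rot, mul_inv_rev, simp_inv, simp_inv]
  have hF : simp' P (γ false) = (rot P γ)⁻¹ * simp' P (γ true) := by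
    rw [← hinv, mul_assoc, simp_mul_self, mul_one]
  rcases Nat.even_or_odd' j with ⟨d, rfl | rfl⟩
  · rw [wordW, alt_two_mul, Nat.mul_mod_right, pow_zero, mul_one]
    cases i
    · rw [Bool.not_false, hinv, inv_pow, ← zpow_natCast, ← zpow_neg, expo]
      simp [Nat.mul_div_cancel_left d two_pos]
    · rw [Bool.not_true, show simp' P (γ true) * simp' P (γ false) = rot P γ from rfl, ← zpow_natCast, expo]
      simp
  · rw [wordW, alt_two_mul_add_one, show (2 * d + 1) % 2 = 1 by omega, pow_one]
    cases i
    · rw [Bool.not_false, hinv, hF, ← mul_assoc, inv_pow, ← zpow_natCast, ← zpow_neg, ← zpow_sub_one,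
        expo]
      simp only [Bool.false_eq_true, if_false]
      congr 2
      omega
    · rw [Bool.not_true, show simp' P (γ true) * simp' P (γ false) = rot P γ from rfl, ← zpow_natCast, expo]
      simp only [if_true]
      congr 2
      omega

theorem wordW_ne [Finite G] {i i' : Bool} {j k : ℕ} (hkj : k < j) (hj : j ≤ orderOf (rot P γ))
    (hpar : k % 2 = j % 2) : wordW P γ i j ≠ wordW P γ i' k := by
  intro h
  rw [wordW_eq, wordW_eq, hpar, mul_left_inj, ← mul_inv_eq_one, ← zpow_neg, ← zpow_add,
    ← orderOf_dvd_iff_zpow_eq_one] at h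
  revert h
  intro h
  have hne : expo i j + -expo i' k ≠ 0 := by
    unfold expo
    cases i <;> cases i' <;> simp only [Bool.false_eq_true, if_false, if_true] <;> omega
  have hle := Nat.le_of_dvd (Int.natAbs_pos.2 hne) (Int.natCast_dvd.1 h)
  revert hle
  unfold expo
  cases i <;> cases i' <;> simp only [Bool.false_eq_true, if_false, if_true] <;> omega

theorem len_wordW [Finite G] (hγ : Function.Surjective γ) {i : Bool} {j : ℕ}
    (hj : j ≤ orderOf (rot P γ)) : len P (wordW P γ i j) = j := by
  by_contra hne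
  have h1 := len_wordW_le P γ j i
  obtain ⟨i', hi'⟩ := exists_wordW P γ hγ _ (wordW P γ i j) rfl
  exact wordW_ne P γ (lt_of_le_of_ne h1 hne) hj (len_wordW_parity P γ j i) hi'

theorem card_weyl [Finite G] (hγ : Function.Surjective γ) : Nat.card (Weyl P) = 2 * orderOf (rot P γ) := by
  classical
  have hnot : simp' P (γ true) ∉ Subgroup.zpowers (rot P γ) := by
    intro h
    rw [mem_zpowers_iff_mem_range_orderOf] at h
    obtain ⟨d, -, hd⟩ := Finset.mem_image.1 h
    have h1 := len_wordW_parity P γ (2 * d) true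
    rw [wordW, alt_two_mul, Bool.not_true] at h1
    rw [show simp' P (γ true) * simp' P (γ false) = rot P γ from rfl, hd, len_simp] at h1
    omega
  have hidx : (Subgroup.zpowers (rot P γ)).index = 2 := by
    rw [Subgroup.index_eq_two_iff]
    refine ⟨simp' P (γ true), fun b => ?_⟩
    obtain ⟨i, hi⟩ := exists_wordW P γ hγ _ b rfl
    rw [wordW_eq] at hi
    rcases Nat.mod_two_eq_zero_or_one (len P b) with hm | hm <;> rw [hm] at hi
    · rw [pow_zero, mul_one] at hi
      refine Or.inr ⟨hi ▸ Subgroup.zpow_mem _ (Subgroup.mem_zpowers _) _, fun h => hnot ?_⟩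
      rw [hi] at h
      exact (Subgroup.mul_mem_cancel_left _ (Subgroup.zpow_mem _ (Subgroup.mem_zpowers _) _)).1 h
    · rw [pow_one] at hi
      refine Or.inl ⟨?_, fun h => hnot ?_⟩
      · rw [hi, mul_assoc, simp_mul_self, mul_one]
        exact Subgroup.zpow_mem _ (Subgroup.mem_zpowers _) _
      · rw [hi] at h
        exact (Subgroup.mul_mem_cancel_left _ (Subgroup.zpow_mem _ (Subgroup.mem_zpowers _) _)).1 h
  rw [← Subgroup.card_mul_index (Subgroup.zpowers (rot P γ)), hidx, Nat.card_zpowers, mul_comm]

open scoped Classical in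
theorem gon_mem_pair [Finite G] (hγ : Function.Bijective γ) :
    orderOf (rot P γ) ∈ ({2, 3, 4, 6, 8} : Set ℕ) := by
  haveI := Fintype.ofFinite (G ⧸ P.B)
  set m := orderOf (rot P γ) with hm
  have hm2 : 2 ≤ m := by
    have h0 : 0 < m := (isOfFinOrder_of_finite _).orderOf_pos
    have h1 : m ≠ 1 := by
      rw [hm, Ne, orderOf_eq_one_iff, rot, mul_eq_one_iff_eq_inv, simp_inv]
      intro h
      exact absurd (hγ.1 (simp_injective P h)) (by decide)
    omega
  set g : Bool → Matrix (G ⧸ P.B) (G ⧸ P.B) ℝ := fun i => posMatrix P (simp' P (γ i)) with hg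
  have halt : ∀ (j : ℕ) (i : Bool), j ≤ m → alt g i j = posMatrix P (wordW P γ i j) := by
    intro j
    induction j with
    | zero =>
      intro i _
      exact (posMatrix_one P).symm
    | succ j ih =>
      intro i hj
      show g i * alt g (!i) j = _
      rw [ih (!i) (by omega), wordW_succ]
      refine posMatrix_simp_mul P ?_
      rw [← wordW_succ, len_wordW P γ hγ.2 hj, len_wordW P γ hγ.2 (by omega)]
  have hsys : Sys g (fun i => param P (γ i)) m := by
    refine ⟨⟨QuotientGroup.mk 1⟩, hm2, fun i => two_le_param P _, fun i => ?_, fun i => ?_, ?_, ?_⟩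
    · rw [hg, posMatrix_transpose, simp_inv]
    · exact posMatrix_simp_sq P _
    · rw [halt m true le_rfl, halt m false le_rfl]
      congr 1
      rw [wordW_eq, wordW_eq]
      have : rot P γ ^ (expo true m - expo false m) = 1 := by
        rw [← orderOf_dvd_iff_zpow_eq_one, show expo true m - expo false m = (m : ℤ) by
          unfold expo; simp only [Bool.false_eq_true, if_false, if_true]; omega]
      rw [zpow_sub, mul_inv_eq_one] at this
      rw [this]
    · intro i i' j k hj hk hjk
      rw [halt j i hj, halt k i' hk]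
      refine trace_orth P fun e => hjk ?_
      rw [← len_wordW P γ hγ.2 (i := i) hj, e, len_wordW P γ hγ.2 hk]
  exact hsys.gon_mem

theorem index_mem [Finite G] (h2 : P.rank = 2) :
    ((P.B ⊓ P.N).subgroupOf P.N).index ∈ ({4, 6, 8, 12, 16} : Set ℕ) := by
  classical
  obtain ⟨s, t, hst, hall⟩ := Nat.card_eq_two_iff.1 h2
  let γ : Bool → P.S := fun b => cond b s t
  have hγ : Function.Bijective γ := by
    refine ⟨fun a b h => ?_, fun r => ?_⟩
    · cases a <;> cases b <;> simp [γ] at h ⊢
      · exact hst h.symm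
      · exact hst h
    · have : r ∈ ({s, t} : Set P.S) := by rw [hall]; trivial
      rcases this with e | e
      · exact ⟨true, e.symm⟩
      · exact ⟨false, e.symm⟩
  have h1 := gon_mem_pair P γ hγ
  have h3 : ((P.B ⊓ P.N).subgroupOf P.N).index = 2 * orderOf (rot P γ) := card_weyl P γ hγ.2
  rw [h3]
  simp only [Set.mem_insert_iff, Set.mem_singleton_iff] at h1 ⊢
  omega

end CfsgLib.FeitHigman
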